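import Groth.Agent.Lib.FibProper8.Main
import Groth.Agent.Lib.CohTop16.PullH

/-! The levels of an inverse image are inverse images. -/

universe u

open CategoryTheory CategoryTheory.Limits Opposite TopologicalSpace FibDesc
open SimplexCategory
open scoped Simplicial
open Groth.Agent.FibSplit8 Groth.Agent.FibProper8

set_option autoImplicit false
set_option backward.isDefEq.respectTransparency false
set_option backward.isDefEq.respectTransparency.types false

noncomputable section

namespace Groth.Agent.HyperSS16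

variable (Y : (WithInitial SimplexCategory)ᵒᵖ ⥤ TopCat.{u})

local notation "DS" => SimplexCategory

/-- The comparison map from an inverse image to a level of an extension. -/
def lvlHom (i : (WithInitial DS)ᵒᵖ) (G : CohTop.Ab (Y.obj (bot DS))) :
    (CohTop.pull (epsMap Y i)).obj G ⟶ (rs Y i).obj (ext₀ Y G) :=
  ((TopCat.Sheaf.pullbackPushforwardAdjunction AddCommGrpCat.{u} (epsMap Y i)).homEquiv G _).symm
    ((adj₀ Y).unit.app G ≫ rho Y i (ext₀ Y G))

theorem lvlHom_comp (i : (WithInitial DS)ᵒᵖ) (G : CohTop.Ab (Y.obj (bot DS))) (A : CohTop.Ab (Y.obj i))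
    (χ : (rs Y i).obj (ext₀ Y G) ⟶ A) :
    (TopCat.Sheaf.pullbackPushforwardAdjunction AddCommGrpCat.{u} (epsMap Y i)).homEquiv G A (lvlHom Y i G ≫ χ) =
      (adj₀ Y).unit.app G ≫ toPush Y i (ext₀ Y G) χ := by
  rw [Adjunction.homEquiv_naturality_right, lvlHom, Equiv.apply_symm_apply, Category.assoc]
  rfl

instance isIso_lvlHom (i : (WithInitial DS)ᵒᵖ) (G : CohTop.Ab (Y.obj (bot DS))) : IsIso (lvlHom Y i G) := by
  have hb : ∀ A, Function.Bijective fun χ : (rs Y i).obj (ext₀ Y G) ⟶ A => lvlHom Y i G ≫ χ := by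
    intro A
    refine (Function.Bijective.of_comp_iff'
      ((TopCat.Sheaf.pullbackPushforwardAdjunction AddCommGrpCat.{u} (epsMap Y i)).homEquiv G A).bijective _).1 ?_
    refine (congrArg Function.Bijective (funext fun χ => ?_)).mp (comp_toPush_bijective Y i G A)
    exact (lvlHom_comp Y i G A χ).symm
  obtain ⟨r, hr⟩ := (hb _).2 (𝟙 _)
  refine ⟨r, hr, (hb _).1 ?_⟩
  change lvlHom Y i G ≫ r ≫ lvlHom Y i G = lvlHom Y i G ≫ 𝟙 _
  rw [← Category.assoc, show lvlHom Y i G ≫ r = 𝟙 _ from hr, Category.id_comp, Category.comp_id]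

theorem nonempty_rsP_pull_iso (n : ℕ) (G : CohTop.Ab (Y.obj (bot DS))) :
    Nonempty ((CohTop.pull (epsMap Y (idx ⦋n⦌))).obj G ≅
      (rsP Y n).obj ((pull (topAug Y) (topAugTop Y) AddCommGrpCat.{u}).obj G)) :=
  ⟨asIso (lvlHom Y (idx ⦋n⦌) G) ≪≫ ((idR Y n).app (ext₀ Y G)).symm⟩

end Groth.Agent.HyperSS16
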