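import Groth.Agent.Lib.HyperSS16.Res
import Groth.Agent.Lib.HyperSS16.Level
import Groth.Agent.Lib.FibHyper8.Main
import Groth.Agent.Lib.FibProper8.Proper
import Groth.Agent.Lib.DblCx16.Aug
import Groth.Agent.Lib.SimpGod16.Descent

/-! The spectral sequence of a simplicial space of cohomological descent. -/

universe u

open CategoryTheory CategoryTheory.Limits Opposite TopologicalSpace FibDesc
open SimplexCategory
open scoped Simplicial
open Groth.Agent.FibSplit8 Groth.Agent.FibProper8 Groth.Agent.FibLocal8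

set_option autoImplicit false
set_option backward.isDefEq.respectTransparency false
set_option backward.isDefEq.respectTransparency.types false
set_option maxHeartbeats 1000000

noncomputable section

namespace Groth.Agent.HyperSS16

variable (Y : (WithInitial SimplexCategory)ᵒᵖ ⥤ TopCat.{u})

local notation "DS" => SimplexCategory
local notation "cS" => ComplexShape.up ℤ

variable {Y} (J : CochainComplex (PSh Y) ℤ)

/-- The groups of the augmented double complex. -/
def dX : ℕ → ℕ → AddCommGrpCat.{u}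
  | 0, q => ((push (topAug Y) (topAugTop Y) AddCommGrpCat.{u}).obj (J.X (q : ℤ))).obj.obj (op (⊤ : Opens (Y.obj (bot DS))))
  | p + 1, q => val (J.X (q : ℤ)) ⊤ p

/-- The horizontal differentials. -/
def dH : ∀ p q, dX J p q →+ dX J (p + 1) q
  | 0, q => (iota (⊤ : Opens (Y.obj (bot DS))) (J.X (q : ℤ))).hom
  | p + 1, q => (dv (J.X (q : ℤ)) ⊤ p).hom

/-- The vertical differentials. -/
def dV : ∀ p q, dX J p q →+ dX J p (q + 1)
  | 0, q => (((push (topAug Y) (topAugTop Y) AddCommGrpCat.{u}).map (J.d (q : ℤ) ((q + 1 : ℕ) : ℤ))).hom.app (op (⊤ : Opens (Y.obj (bot DS))))).hom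
  | p + 1, q => ((J.d (q : ℤ) ((q + 1 : ℕ) : ℤ)).hom.app (op (pb Y ⊤ ⦋p⦌))).hom

/-- The augmented double complex of a complex on the total site. -/
def dbl : DblCx16.Dbl.{u} where
  X := dX J
  h := dH J
  v := dV J
  hh := by
    rintro (_ | p) q x
    · exact dv_iota (⊤ : Opens (Y.obj (bot DS))) (J.X (q : ℤ)) x
    · exact dv_dv (J.X (q : ℤ)) p x
  vv := by
    rintro (_ | p) q x
    · exact congrArg (fun φ : (push (topAug Y) (topAugTop Y) AddCommGrpCat.{u}).obj (J.X (q : ℤ)) ⟶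
        (push (topAug Y) (topAugTop Y) AddCommGrpCat.{u}).obj (J.X ((q + 1 + 1 : ℕ) : ℤ)) => φ.hom.app (op (⊤ : Opens (Y.obj (bot DS)))) x)
        ((Functor.map_comp _ _ _).symm.trans ((congrArg _ (J.d_comp_d _ _ _)).trans (Functor.map_zero _ _ _)))
    · exact congrArg (fun φ : J.X (q : ℤ) ⟶ J.X ((q + 1 + 1 : ℕ) : ℤ) => φ.hom.app (op (pb Y ⊤ ⦋p⦌)) x)
        (J.d_comp_d _ _ _)
  hv := by
    rintro (_ | p) q x
    · exact ConcreteCategory.congr_hom (congrArg (fun t => t.app (op (⊤ : Opens (Y.obj (bot DS))))) ((irow Y).naturality (J.d (q : ℤ) ((q + 1 : ℕ) : ℤ)))) x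
    · exact ConcreteCategory.congr_hom (congrArg (fun t => t.app (op (⊤ : Opens (Y.obj (bot DS))))) ((drow Y p).naturality (J.d (q : ℤ) ((q + 1 : ℕ) : ℤ)))) x

theorem totExact (hJ : ∀ k, Injective (J.X k)) (n : ℤ) : DblCx16.TotExact (dbl J) n := by
  refine DblCx16.totExact_of_rows _ (fun q x hx => iota_injective (⊤ : Opens (Y.obj (bot DS))) (J.X (q : ℤ)) ?_) (fun p q x hx => ?_) n
  · exact hx.trans (map_zero _).symm
  · cases p with
    | zero => exact exists_iota (⊤ : Opens (Y.obj (bot DS))) (J.X (q : ℤ)) x hx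
    | succ p =>
      haveI := hJ (q : ℤ)
      exact exists_dv (J.X (q : ℤ)) (U := ⊤) p x hx

variable {J} {F : CohTop.Ab (Y.obj (bot DS))}
  (φ : ((pull (topAug Y) (topAugTop Y) AddCommGrpCat.{u}).mapHomologicalComplex cS).obj
    ((HomologicalComplex.single _ cS 0).obj F) ⟶ J)

theorem nonempty_col_succ [QuasiIso φ] [J.IsStrictlyGE 0] (hJ : ∀ k, Injective (J.X k)) (p q : ℕ) :
    Nonempty ((DblCx16.col (dbl J) (p + 1)).homology q ≅
      AddCommGrpCat.of (CohTop.H ((CohTop.pull (epsMap Y (idx ⦋p⦌))).obj F) q)) := by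
  haveI : CochainComplex.IsStrictlyGE (((rsP Y p).mapHomologicalComplex cS).obj J) 0 :=
    CochainComplex.isStrictlyGE_iff _ _ |>.2 fun i hi =>
      (show IsZero ((rsP Y p).obj (J.X i)) from (rsP Y p).map_isZero (J.isZero_of_isStrictlyGE 0 i hi))
  let R := resol (((rsP Y p).mapHomologicalComplex cS).map φ)
    (fun i hi => (rsP Y p).map_isZero ((pull (topAug Y) (topAugTop Y) AddCommGrpCat.{u}).map_isZero
      (HomologicalComplex.isZero_single_obj_X cS 0 F i hi)))
    ((nonempty_rsP_pull_iso Y p F).some ≪≫ (rsP Y p).mapIso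
      ((pull (topAug Y) (topAugTop Y) AddCommGrpCat.{u}).mapIso (HomologicalComplex.singleObjXSelf cS 0 F).symm))
    (fun k => haveI := hJ (k : ℤ); isFlasque_rsP p (J.X (k : ℤ)))
  obtain ⟨e⟩ := R.nonempty_homology_top q
  exact ⟨(e : (DblCx16.col (dbl J) (p + 1)).homology q ≅ _)⟩

theorem nonempty_col_zero (h : IsCohDescentTop Y) [QuasiIso φ] [J.IsStrictlyGE 0] (hJ : ∀ k, Injective (J.X k))
    (q : ℕ) : Nonempty ((DblCx16.col (dbl J) 0).homology q ≅ AddCommGrpCat.of (CohTop.H F q)) := by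
  haveI := preservesFiniteLimits_pull (Y := Y)
  haveI : QuasiIso (adjunct (FibDesc.adj (topAug Y) (topAugTop Y) AddCommGrpCat.{u}) φ) :=
    ⟨fun i => (quasiIsoAt_iff_isIso_homologyMap _ i).2
      (FibHyper8.etaIso_of_descent h 0 i _ inferInstance J inferInstance hJ φ inferInstance)⟩
  haveI : CochainComplex.IsStrictlyGE (((push (topAug Y) (topAugTop Y) AddCommGrpCat.{u}).mapHomologicalComplex cS).obj J) 0 :=
    CochainComplex.isStrictlyGE_iff _ _ |>.2 fun i hi =>
      (show IsZero ((push (topAug Y) (topAugTop Y) AddCommGrpCat.{u}).obj (J.X i)) from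
        (push (topAug Y) (topAugTop Y) AddCommGrpCat.{u}).map_isZero (J.isZero_of_isStrictlyGE 0 i hi))
  let R := resol (adjunct (FibDesc.adj (topAug Y) (topAugTop Y) AddCommGrpCat.{u}) φ)
    (fun i hi => HomologicalComplex.isZero_single_obj_X cS 0 F i hi)
    (HomologicalComplex.singleObjXSelf cS 0 F).symm
    (fun k => by
      haveI := hJ (k : ℤ)
      haveI : Injective ((push (topAug Y) (topAugTop Y) AddCommGrpCat.{u}).obj (J.X (k : ℤ))) :=
        Injective.injective_of_adjoint (FibDesc.adj (topAug Y) (topAugTop Y) AddCommGrpCat.{u}) _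
      exact CohFound.isFlasque_of_injective (X := Y.obj (bot DS))
        ((push (topAug Y) (topAugTop Y) AddCommGrpCat.{u}).obj (J.X (k : ℤ))))
  obtain ⟨e⟩ := R.nonempty_homology_top q
  exact ⟨(e : (DblCx16.col (dbl J) 0).homology q ≅ _)⟩

variable (Y)

/-- The descent spectral sequence. -/
theorem exists_ss (h : IsCohDescentTop Y) (F : CohTop.Ab (Y.obj (bot DS))) :
    ∃ (E : CohomologicalSpectralSequence AddCommGrpCat.{u} 1)
      (a : SpSeq.Abutment E (fun n : ℤ =>
        if 0 ≤ n then AddCommGrpCat.of (CohTop.H F n.toNat) else AddCommGrpCat.of PUnit.{u + 1})),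
      (∀ n, a.IsFinite n) ∧ SpSeq.IsBounded E ∧
      ∀ p q : ℤ, Nonempty ((E.page 1 le_rfl).X (p, q) ≅
        (if 0 ≤ p ∧ 0 ≤ q then
          AddCommGrpCat.of (CohTop.H ((CohTop.pull (epsMap Y (idx ⦋p.toNat⦌))).obj F) q.toNat)
         else AddCommGrpCat.of PUnit.{u + 1})) := by
  obtain ⟨J, φ, hφ, hJ, hge⟩ := FibHyper8.exists_res (Y := Y)
    ((HomologicalComplex.single (Sheaf (topAugTop Y (bot DS)) AddCommGrpCat.{u}) cS 0).obj F) 0
  haveI := hφ
  haveI := hge
  have hpu : IsZero (AddCommGrpCat.of PUnit.{u + 1}) :=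
    (IsZero.iff_id_eq_zero _).2 (ConcreteCategory.hom_ext _ _ fun _ => rfl)
  refine DblCx16.exists_ss (DblCx16.shift (dbl J)) _ (fun n => ?_)
    (fun p q => if 0 ≤ p ∧ 0 ≤ q then
      AddCommGrpCat.of (CohTop.H ((CohTop.pull (epsMap Y (idx ⦋p.toNat⦌))).obj F) q.toNat)
      else AddCommGrpCat.of PUnit.{u + 1}) (fun p q => ?_)
    (fun p q h => by rw [if_neg (by omega)]; exact hpu)
  · by_cases hn : 0 ≤ n
    · obtain ⟨m, rfl⟩ := Int.eq_ofNat_of_zero_le hn
      obtain ⟨e⟩ := DblCx16.nonempty_homology_col_iso (dbl J) (totExact J hJ) m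
      obtain ⟨e'⟩ := nonempty_col_zero φ h hJ m
      exact ⟨e.symm ≪≫ e' ≪≫ eqToIso (by simp)⟩
    · refine ⟨IsZero.iso ?_ (by rw [if_neg hn]; exact hpu)⟩
      refine ShortComplex.isZero_homology_of_isZero_X₂ _ ((IsZero.iff_id_eq_zero _).2
        (ConcreteCategory.hom_ext _ _ fun a => funext fun k => absurd k.2 (by omega)))
  · obtain ⟨e⟩ := nonempty_col_succ φ hJ p q
    exact ⟨(e : (DblCx16.col (DblCx16.shift (dbl J)) p).homology q ≅ _) ≪≫ eqToIso (by simp)⟩

/-- A proper separated surjection is universally of cohomological descent. -/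
theorem isUniv_of_proper {X S : TopCat.{u}} (f : X ⟶ S) (hf : IsProperMap f)
    (hs : SheafVan16.FibSep f) (hsurj : Function.Surjective f) : IsUnivCohDescentMap f := by
  intro S' g
  have sq := IsPullback.of_hasPullback f g
  refine isCohDescentMap_of_proper _ (SheafVan16.isProperMap_snd sq hf) (SheafVan16.fibSep_snd sq hs) fun y => ?_
  obtain ⟨x, hx⟩ := hsurj (g y)
  obtain ⟨z, -, hz⟩ := SheafVan16.exists_fibre_point sq x y hx
  exact ⟨z, hz⟩

end Groth.Agent.HyperSS16
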