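import Groth.Agent.Lib.SimpGod16.Resol
import Groth.Agent.Lib.CohFound.Rpush
import Mathlib.Algebra.Homology.QuasiIso

/-! A quasi-isomorphism into a bounded below complex of flasque sheaves gives a flasque resolution. -/

universe u

open CategoryTheory TopologicalSpace Opposite CategoryTheory.Limits

set_option autoImplicit false
set_option backward.isDefEq.respectTransparency false
set_option backward.isDefEq.respectTransparency.types false

namespace Groth.Agent.HyperSS16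

open Groth.Agent.CohFound

variable {Z : TopCat.{u}} {X C : CochainComplex (CohTop.Ab Z) ℤ} (f : X ⟶ C) [QuasiIso f]
  (hX : ∀ i : ℤ, i ≠ 0 → IsZero (X.X i)) [C.IsStrictlyGE 0]

include f hX

theorem exactAt (k : ℤ) (hk : k ≠ 0) : C.ExactAt k :=
  (quasiIsoAt_iff_exactAt f k (HomologicalComplex.ExactAt.of_isZero (hX k hk))).1 (QuasiIso.quasiIsoAt k)

theorem exact_succ (q : ℕ) :
    (ShortComplex.mk (C.d (q : ℤ) ((q + 1 : ℕ) : ℤ)) (C.d ((q + 1 : ℕ) : ℤ) ((q + 1 + 1 : ℕ) : ℤ))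
      (C.d_comp_d _ _ _)).Exact := by
  have h := exactAt f hX ((q + 1 : ℕ) : ℤ) (by omega)
  rwa [HomologicalComplex.exactAt_iff' _ (q : ℤ) ((q + 1 : ℕ) : ℤ) ((q + 1 + 1 : ℕ) : ℤ) (by simp) (by simp)] at h

theorem exact_zero : ∃ w, (ShortComplex.mk (f.f 0) (C.d 0 1) w).Exact ∧ Mono (f.f 0) := by
  have h : QuasiIsoAt f 0 := QuasiIso.quasiIsoAt 0
  rw [quasiIsoAt_iff' f (-1) 0 1 (by simp) (by simp),
    ShortComplex.quasiIso_iff_of_zeros _ ((hX (-1) (by omega)).eq_of_src _ _) ((hX 1 (by omega)).eq_of_tgt _ _)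
      ((C.isZero_of_isStrictlyGE 0 (-1) (by omega)).eq_of_src _ _)] at h
  exact ⟨_, h⟩

/-- The resolution. -/
noncomputable def resol {G : CohTop.Ab Z} (e : G ≅ X.X 0) (hC : ∀ q : ℕ, TopCat.Sheaf.IsFlasque (C.X (q : ℤ))) :
    SimpGod16.Resol G where
  A q := C.X (q : ℤ)
  flasque := hC
  d q := C.d (q : ℤ) ((q + 1 : ℕ) : ℤ)
  d_d q := C.d_comp_d _ _ _
  ε := e.hom ≫ f.f 0
  ε_d := by
    obtain ⟨w, -, -⟩ := exact_zero f hX
    rw [Category.assoc]
    exact (congrArg (e.hom ≫ ·) w).trans comp_zero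
  ε_inj U := by
    obtain ⟨-, -, hm⟩ := exact_zero f hX
    haveI := hm
    exact injective_app_of_mono (e.hom ≫ f.f 0) U
  exact_zero U c hc y hy := by
    obtain ⟨w, he, hm⟩ := exact_zero f hX
    obtain ⟨V, hV, hyV, t, ht⟩ := exists_local_lift_of_exact he c hc hy
    refine ⟨V, hV, hyV, e.inv.hom.app (op V) t, Eq.trans ?_ ht⟩
    exact congrArg (fun φ : X.X 0 ⟶ C.X 0 => φ.hom.app (op V) t) (e.inv_hom_id_assoc (f.f 0))
  exact_succ q U c hc y hy := exists_local_lift_of_exact (exact_succ f hX q) c hc hy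

theorem resol_d {G : CohTop.Ab Z} (e : G ≅ X.X 0) (hC : ∀ q : ℕ, TopCat.Sheaf.IsFlasque (C.X (q : ℤ))) (q : ℕ) :
    (resol f hX e hC).d q = C.d (q : ℤ) ((q + 1 : ℕ) : ℤ) := rfl

end Groth.Agent.HyperSS16
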